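import Mathlib
import Groth.Prelude.Def_CoactBr
import Groth.Agent.Lib.Helper59.PointsOfFT

/-!
# Affine charts around rational points of integral schemes over a field (helper84)
-/

set_option autoImplicit false
universe u
open CategoryTheory MonoidalCategory CartesianMonoidalCategory AlgebraicGeometry Opposite CoactBr

namespace Groth.Agent.Lib.Helper84.Rosenlicht.Sch

variable {k : Type u} [Field k]

/-- the canonical identification of the unit object with `Spec k`. -/
noncomputable def u₀ (k : Type u) [CommRing k] :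
    𝟙_ (Over (Spec (CommRingCat.of k))) ⟶ sp k k :=
  Over.homMk (𝟙 _) (by
    show 𝟙 _ ≫ Spec.map (CommRingCat.ofHom (algebraMap k k)) = 𝟙 _
    rw [Category.id_comp]
    exact Spec.map_id _)

@[simp] theorem u₀_left (k : Type u) [CommRing k] : (u₀ k).left = 𝟙 _ := rfl

/-- the rational point of `Spec A` attached to an augmentation. -/
noncomputable def ptOf {A : Type u} [CommRing A] [Algebra k A] (a : A →ₐ[k] k) :
    𝟙_ (Over (Spec (CommRingCat.of k))) ⟶ sp k A := u₀ k ≫ pt a

theorem exists_chart_of_mem (X : Over (Spec (CommRingCat.of k))) [IsIntegral X.left]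
    [LocallyOfFiniteType X.hom] (x : X.left) :
    ∃ (A : Type u) (_ : CommRing A) (_ : IsDomain A) (_ : Algebra k A)
      (_ : Algebra.FiniteType k A) (i : sp k A ⟶ X) (_ : IsOpenImmersion i.left),
      x ∈ Set.range i.left := by
  obtain ⟨_, ⟨U, hU : IsAffineOpen U, rfl⟩, hxU, -⟩ :=
    X.left.isBasis_affineOpens.exists_subset_of_mem_open (Set.mem_univ x) isOpen_univ
  haveI : Nonempty U := ⟨⟨x, hxU⟩⟩
  obtain ⟨ψ, hψ⟩ := Spec.map_surjective (hU.fromSpec ≫ X.hom)
  letI alg : Algebra k Γ(X.left, U) := ψ.hom.toAlgebra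
  have hft : Algebra.FiniteType k Γ(X.left, U) := by
    have h1 : LocallyOfFiniteType (hU.fromSpec ≫ X.hom) := inferInstance
    rw [← hψ, HasRingHomProperty.Spec_iff (P := @LocallyOfFiniteType)] at h1
    exact h1
  refine ⟨Γ(X.left, U), inferInstance, inferInstance, alg, hft,
    Over.homMk hU.fromSpec hψ.symm, ?_, ?_⟩
  · show IsOpenImmersion hU.fromSpec
    infer_instance
  · show x ∈ Set.range hU.fromSpec
    rw [hU.range_fromSpec]
    exact hxU

theorem exists_chart (X : Over (Spec (CommRingCat.of k))) [IsIntegral X.left]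
    [LocallyOfFiniteType X.hom] (x₀ : 𝟙_ (Over (Spec (CommRingCat.of k))) ⟶ X) :
    ∃ (A : Type u) (_ : CommRing A) (_ : IsDomain A) (_ : Algebra k A)
      (_ : Algebra.FiniteType k A) (i : sp k A ⟶ X) (_ : IsOpenImmersion i.left)
      (a : A →ₐ[k] k), x₀ = ptOf a ≫ i := by
  let p₀ : Spec (CommRingCat.of k) := IsLocalRing.closedPoint k
  obtain ⟨A, _, _, _, hft, i, hi, hx⟩ := exists_chart_of_mem X (x₀.left p₀)
  have hsub : Subsingleton ↥(𝟙_ (Over (Spec (CommRingCat.of k)))).left :=
    inferInstanceAs (Subsingleton (PrimeSpectrum k))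
  haveI := hi
  have hrange : Set.range x₀.left ⊆ Set.range i.left := by
    rintro _ ⟨p, rfl⟩
    rw [Subsingleton.elim p p₀]
    exact hx
  let l := IsOpenImmersion.lift i.left x₀.left hrange
  have hl : l ≫ i.left = x₀.left := IsOpenImmersion.lift_fac _ _ _
  obtain ⟨a₀, ha₀⟩ := Spec.map_surjective (R := CommRingCat.of A) (S := CommRingCat.of k) l
  have hcomm : CommRingCat.ofHom (algebraMap k A) ≫ a₀ = 𝟙 _ := by
    apply Spec.map_injective
    rw [Spec.map_comp, ha₀, Spec.map_id]
    have hw : i.left ≫ X.hom = Spec.map (CommRingCat.ofHom (algebraMap k A)) := Over.w i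
    have hw0 : x₀.left ≫ X.hom = 𝟙 _ := Over.w x₀
    rw [← hw]
    exact (Category.assoc l i.left X.hom).symm.trans
      ((congrArg (fun m => m ≫ X.hom) hl).trans hw0)
  let a : A →ₐ[k] k :=
    { a₀.hom with
      commutes' := fun c => by
        have := ConcreteCategory.congr_hom hcomm c
        exact this }
  refine ⟨A, inferInstance, inferInstance, inferInstance, hft, i, hi, a, ?_⟩
  apply Over.OverMorphism.ext
  show x₀.left = (𝟙 _ ≫ Spec.map (CommRingCat.ofHom a.toRingHom)) ≫ i.left
  rw [Category.id_comp, ← hl, ← ha₀]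
  rfl

/-- integral schemes locally of finite type over an algebraically closed field have rational
points. -/
theorem exists_point [IsAlgClosed k] (X : Over (Spec (CommRingCat.of k))) [IsIntegral X.left]
    [LocallyOfFiniteType X.hom] : Nonempty (𝟙_ (Over (Spec (CommRingCat.of k))) ⟶ X) := by
  obtain ⟨x⟩ : Nonempty X.left := inferInstance
  obtain ⟨A, _, _, _, hft, i, hi, hx⟩ := exists_chart_of_mem X x
  obtain ⟨m, hm⟩ := Ideal.exists_maximal A
  obtain ⟨a, -⟩ := Groth.Agent.Lib.Helper59.exists_algHom_ker_eq_of_isMaximal k A m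
  exact ⟨ptOf a ≫ i⟩

end Groth.Agent.Lib.Helper84.Rosenlicht.Sch
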