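import Mathlib
import Groth.Prelude.Def_CoactBr

/-!
# Evaluating global sections at affine-valued points (helper84)

For `T` over `Spec k` and a point `φ : Spec C ⟶ T` over `k`, `ev φ : Γ(T, ⊤) →+* C`.
-/

set_option autoImplicit false
universe u
open CategoryTheory MonoidalCategory CartesianMonoidalCategory AlgebraicGeometry Opposite CoactBr

namespace Groth.Agent.Lib.Helper84.Rosenlicht.Sch

section SchemeLevel

variable {Y Y' : Scheme.{u}} {C C' : Type u} [CommRing C] [CommRing C']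

/-- evaluation of a global section at a `C`-valued point. -/
noncomputable def evS (f : Spec (CommRingCat.of C) ⟶ Y) : Γ(Y, ⊤) →+* C :=
  (Scheme.ΓSpecIso (CommRingCat.of C)).hom.hom.comp f.appTop.hom

theorem evS_apply (f : Spec (CommRingCat.of C) ⟶ Y) (s : Γ(Y, ⊤)) :
    evS f s = (Scheme.ΓSpecIso (CommRingCat.of C)).hom (f.appTop s) := rfl

theorem evS_comp (f : Spec (CommRingCat.of C) ⟶ Y) (g : Y ⟶ Y') (s : Γ(Y', ⊤)) :
    evS (f ≫ g) s = evS f (g.appTop s) := by
  rw [evS_apply, evS_apply, Scheme.Hom.comp_appTop, CommRingCat.comp_apply]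

theorem evS_specMap_comp (θ : C →+* C') (f : Spec (CommRingCat.of C) ⟶ Y) (s : Γ(Y, ⊤)) :
    evS (Spec.map (CommRingCat.ofHom θ) ≫ f) s = θ (evS f s) := by
  rw [evS_apply, evS_apply, Scheme.Hom.comp_appTop, CommRingCat.comp_apply]
  have h := Scheme.ΓSpecIso_naturality (CommRingCat.ofHom θ)
  have h2 := ConcreteCategory.congr_hom h (f.appTop s)
  rw [CommRingCat.comp_apply, CommRingCat.comp_apply] at h2
  exact h2

theorem evS_specMap (θ : C →+* C') (s : Γ(Spec (CommRingCat.of C), ⊤)) :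
    evS (Spec.map (CommRingCat.ofHom θ)) s = θ ((Scheme.ΓSpecIso (CommRingCat.of C)).hom s) := by
  have h := evS_specMap_comp θ (𝟙 (Spec (CommRingCat.of C))) s
  rw [Category.comp_id] at h
  rw [h, evS_apply]
  simp

theorem evS_specMap_inv (θ : C →+* C') (c : C) :
    evS (Spec.map (CommRingCat.ofHom θ)) ((Scheme.ΓSpecIso (CommRingCat.of C)).inv c) = θ c := by
  rw [evS_specMap]
  simp

end SchemeLevel

variable {k : Type u} [CommRing k] {T T' : Over (Spec (CommRingCat.of k))}
  {C C' : Type u} [CommRing C] [Algebra k C] [CommRing C'] [Algebra k C']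

/-- evaluation of a global section at a `C`-valued point. -/
noncomputable def ev (φ : sp k C ⟶ T) : Γ(T.left, ⊤) →+* C :=
  evS (Y := T.left) (C := C) φ.left

theorem ev_comp (φ : sp k C ⟶ T) (ψ : T ⟶ T') (s : Γ(T'.left, ⊤)) :
    ev (φ ≫ ψ) s = ev φ (ψ.left.appTop s) :=
  evS_comp (Y := T.left) (C := C) φ.left ψ.left s

theorem ev_pt_comp (θ : C →ₐ[k] C') (φ : sp k C ⟶ T) (s : Γ(T.left, ⊤)) :
    ev (pt θ ≫ φ) s = θ (ev φ s) :=
  evS_specMap_comp (Y := T.left) θ.toRingHom φ.left s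

theorem ev_str (φ : sp k C ⟶ T) (c : k) :
    ev φ (T.hom.appTop ((Scheme.ΓSpecIso (CommRingCat.of k)).inv c)) = algebraMap k C c := by
  have hw : φ.left ≫ T.hom = Spec.map (CommRingCat.ofHom (algebraMap k C)) := Over.w φ
  have h1 := evS_comp (Y := T.left) (C := C) φ.left T.hom
    ((Scheme.ΓSpecIso (CommRingCat.of k)).inv c)
  have h2 := (congrArg (fun m => evS (C := C) m ((Scheme.ΓSpecIso (CommRingCat.of k)).inv c))
    hw).trans (evS_specMap_inv (algebraMap k C) c)
  exact h1.symm.trans h2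

end Groth.Agent.Lib.Helper84.Rosenlicht.Sch
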