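import Mathlib
import Groth.Prelude.Def_CoactBr
import Groth.Agent.Lib.Helper12.GeomAlgClosed
import Groth.Agent.Lib.Helper93.ActionOpen
import Groth.Agent.Lib.Helper50.GeomReducedScheme

/-!
# Products of integral schemes over an algebraically closed field are integral (helper84)
-/

set_option autoImplicit false
universe u
open CategoryTheory MonoidalCategory CartesianMonoidalCategory AlgebraicGeometry Opposite Limits

namespace Groth.Agent.Lib.Helper84.Rosenlicht.Sch

variable {k : Type u} [Field k] [IsAlgClosed k]

/-- reduced schemes over an algebraically closed field are geometrically reduced. -/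
theorem geometricallyReduced_of_isReduced {X : Scheme.{u}} (f : X ⟶ Spec (CommRingCat.of k))
    [IsReduced X] : GeometricallyReduced f := by
  apply Groth.Agent.Lib.Helper50.geometricallyReduced_of_forall_finite_isPurelyInseparable
  intro K _ _ _ _
  have hsep : Algebra.IsSeparable k K := Algebra.IsAlgebraic.isSeparable_of_perfectField
  have hsurj : Function.Surjective (algebraMap k K) :=
    IsPurelyInseparable.surjective_algebraMap_of_isSeparable k K
  have hbij : Function.Bijective (algebraMap k K) := ⟨(algebraMap k K).injective, hsurj⟩
  haveI : IsIso (CommRingCat.ofHom (algebraMap k K)) :=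
    (ConcreteCategory.isIso_iff_bijective _).2 hbij
  haveI : IsIso (Spec.map (CommRingCat.ofHom (algebraMap k K))) := inferInstance
  haveI : IsIso (pullback.fst f (Spec.map (CommRingCat.ofHom (algebraMap k K)))) := inferInstance
  exact isReduced_of_isOpenImmersion
    (pullback.fst f (Spec.map (CommRingCat.ofHom (algebraMap k K))))

theorem isIntegral_pullback {X Y : Scheme.{u}} (f : X ⟶ Spec (CommRingCat.of k))
    (g : Y ⟶ Spec (CommRingCat.of k)) [IsIntegral X] [IsIntegral Y] [LocallyOfFiniteType f]
    [LocallyOfFiniteType g] : IsIntegral (pullback f g) := by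
  haveI : GeometricallyIrreducible g :=
    Groth.Agent.Lib.Helper12.GeomAlgClosed.geometricallyIrreducible_of_irreducibleSpace g
  haveI : UniversallyOpen g := Groth.Agent.Lib.Helper93.ActionOpen.universallyOpen_of_field g
  haveI : GeometricallyReduced g := geometricallyReduced_of_isReduced g
  haveI : IsLocallyNoetherian X := LocallyOfFiniteType.isLocallyNoetherian f
  haveI : IrreducibleSpace ↥(pullback f g) := inferInstance
  haveI : IsReduced (pullback f g) := inferInstance
  exact isIntegral_of_irreducibleSpace_of_isReduced _

theorem isIntegral_tensor (X Y : Over (Spec (CommRingCat.of k))) [IsIntegral X.left]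
    [IsIntegral Y.left] [LocallyOfFiniteType X.hom] [LocallyOfFiniteType Y.hom] :
    IsIntegral (X ⊗ Y).left :=
  isIntegral_pullback X.hom Y.hom

end Groth.Agent.Lib.Helper84.Rosenlicht.Sch
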