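import Mathlib
import Groth.Agent.Lib.Helper84.Rosenlicht.Units
import Groth.Agent.Lib.Helper84.Rosenlicht.Sch.Ev
import Groth.Agent.Lib.Helper84.Rosenlicht.Sch.Chart
import Groth.Agent.Lib.Helper84.Rosenlicht.Sch.ProdInt
import Groth.Agent.Lib.Helper84.Obs.Trans

/-!
# Units on a product of varieties (helper84)

`X`, `Y` integral, locally of finite type over an algebraically closed field `k`, with rational
points `x₀`, `y₀`.  For a unit `f` on `X × Y`:
`f(x, y) f(x₀, y₀) = f(x, y₀) f(x₀, y)`.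
-/

set_option autoImplicit false
universe u
open CategoryTheory MonoidalCategory CartesianMonoidalCategory AlgebraicGeometry Opposite CoactBr
open TensorProduct

namespace Groth.Agent.Lib.Helper84.Rosenlicht.Sch

section Alg

variable {k : Type u} [Field k] [IsAlgClosed k] {A B : Type u} [CommRing A] [IsDomain A]
  [Algebra k A] [CommRing B] [IsDomain B] [Algebra k B] [Algebra.FiniteType k B]

/-- slice at a point of the right factor, as a `k`-algebra map. -/
noncomputable def slR (A : Type u) [CommRing A] [Algebra k A] {B : Type u} [CommRing B]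
    [Algebra k B] (b : B →ₐ[k] k) : A ⊗[k] B →ₐ[k] A :=
  Algebra.TensorProduct.lift (AlgHom.id k A) ((Algebra.ofId k A).comp b)
    (fun _ _ => Commute.all _ _)

/-- slice at a point of the left factor, as a `k`-algebra map. -/
noncomputable def slL {A : Type u} [CommRing A] [Algebra k A] (B : Type u) [CommRing B]
    [Algebra k B] (a : A →ₐ[k] k) : A ⊗[k] B →ₐ[k] B :=
  Algebra.TensorProduct.lift ((Algebra.ofId k B).comp a) (AlgHom.id k B)
    (fun _ _ => Commute.all _ _)

omit [IsAlgClosed k] [IsDomain A] [IsDomain B] [Algebra.FiniteType k B] in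
theorem slR_eq_sl (b : B →ₐ[k] k) (t : A ⊗[k] B) : slR A b t = sl A b t := by
  induction t using TensorProduct.induction_on with
  | zero => simp
  | tmul x y => simp [slR, Algebra.ofId_apply]
  | add s t hs ht => simp only [map_add, hs, ht]

theorem unit_formula (w w' : A ⊗[k] B) (hww : w * w' = 1) (a : A →ₐ[k] k) (b : B →ₐ[k] k) :
    w * algebraMap k (A ⊗[k] B)
        (Algebra.TensorProduct.lift a b (fun _ _ => Commute.all _ _) w) =
      (Algebra.TensorProduct.includeLeft : A →ₐ[k] A ⊗[k] B) (slR A b w) *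
      (Algebra.TensorProduct.includeRight : B →ₐ[k] A ⊗[k] B) (slL B a w) := by
  obtain ⟨β, hβ⟩ := exists_tmul_of_mul_eq_one w w' hww b
  rw [← slR_eq_sl] at hβ
  set α := slR A b w with hα
  have h1 : slR A b (α ⊗ₜ[k] β) = b β • α := by
    simp [slR, Algebra.ofId_apply, Algebra.smul_def, mul_comm]
  have h2 : slL B a (α ⊗ₜ[k] β) = a α • β := by
    simp [slL, Algebra.ofId_apply, Algebra.smul_def]
  have h3 : Algebra.TensorProduct.lift a b (fun _ _ => Commute.all _ _) (α ⊗ₜ[k] β) =
      a α * b β := by simp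
  have hα' : α = b β • α := by
    conv_lhs => rw [hα, hβ, h1]
  rw [hβ, h2, h3]
  simp only [Algebra.TensorProduct.includeLeft_apply, Algebra.TensorProduct.includeRight_apply,
    Algebra.TensorProduct.tmul_mul_tmul, mul_one, one_mul]
  rw [Algebra.algebraMap_eq_smul_one, mul_smul_comm, mul_one, TensorProduct.tmul_smul,
    mul_smul, TensorProduct.smul_tmul' (b β), ← hα']

end Alg

section Inj

theorem appTop_injective_of_isOpenImmersion {W Z : Scheme.{u}} [IsIntegral Z] (j : W ⟶ Z)
    [IsOpenImmersion j] [Nonempty W] : Function.Injective j.appTop := by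
  have h1 : j.appTop =
      Z.presheaf.map (homOfLE (le_top : j ''ᵁ ⊤ ≤ ⊤)).op ≫ (j.appIso ⊤).hom := by
    rw [Scheme.Hom.appIso_hom', Scheme.Hom.map_appLE]
    exact Scheme.Hom.app_eq_appLE j
  haveI : Nonempty (j ''ᵁ (⊤ : W.Opens)) := by
    obtain ⟨x⟩ := (inferInstance : Nonempty W)
    exact ⟨⟨j x, ⟨x, trivial, rfl⟩⟩⟩
  have h2 : Function.Injective (Z.presheaf.map (homOfLE (le_top : j ''ᵁ ⊤ ≤ ⊤)).op) :=
    map_injective_of_isIntegral Z _
  have h3 : Function.Injective (j.appIso ⊤).hom :=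
    ((ConcreteCategory.isIso_iff_bijective _).1 inferInstance).1
  rw [h1]
  intro s t hst
  rw [CommRingCat.comp_apply, CommRingCat.comp_apply] at hst
  exact h2 (h3 hst)

end Inj

section Sch

variable {k : Type u} [Field k] [IsAlgClosed k]


omit [IsAlgClosed k] in
theorem toUnit_comp_u₀ {C : Type u} [CommRing C] [Algebra k C] :
    toUnit (sp k C) ≫ u₀ k = pt (Algebra.ofId k C) := by
  apply Over.OverMorphism.ext
  show (toUnit (sp k C)).left ≫ 𝟙 _ = Spec.map (CommRingCat.ofHom (Algebra.ofId k C).toRingHom)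
  rw [Category.comp_id]
  exact Over.toUnit_left

omit [IsAlgClosed k] in
theorem toUnit_ptOf (C : Type u) [CommRing C] [Algebra k C] {B : Type u} [CommRing B]
    [Algebra k B] (b : B →ₐ[k] k) :
    toUnit (sp k C) ≫ ptOf b = pt ((Algebra.ofId k C).comp b) := by
  rw [ptOf, ← Category.assoc, toUnit_comp_u₀, ← pt_comp]

variable {X Y : Over (Spec (CommRingCat.of k))} [IsIntegral X.left] [IsIntegral Y.left]
  [LocallyOfFiniteType X.hom] [LocallyOfFiniteType Y.hom]

/-- **units on a product**: `f(x, y) f(x₀, y₀) = f(x, y₀) f(x₀, y)`. -/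
theorem unit_prod_formula (x₀ : 𝟙_ (Over (Spec (CommRingCat.of k))) ⟶ X) (y₀ : 𝟙_ (Over (Spec (CommRingCat.of k))) ⟶ Y)
    (f : Γ((X ⊗ Y).left, ⊤)) (hf : IsUnit f) :
    f * (toUnit (X ⊗ Y)).left.appTop ((lift x₀ y₀).left.appTop f) =
      (fst X Y).left.appTop ((lift (𝟙 X) (toUnit X ≫ y₀)).left.appTop f) *
      (snd X Y).left.appTop ((lift (toUnit Y ≫ x₀) (𝟙 Y)).left.appTop f) := by
  obtain ⟨A, _, _, _, _, iX, hiX, a, rfl⟩ := exists_chart X x₀
  obtain ⟨B, _, _, _, _, iY, hiY, b, rfl⟩ := exists_chart Y y₀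
  haveI := hiX
  haveI := hiY
  let inclL : A →ₐ[k] A ⊗[k] B := Algebra.TensorProduct.includeLeft
  let inclR : B →ₐ[k] A ⊗[k] B := Algebra.TensorProduct.includeRight
  let j : sp k (A ⊗[k] B) ⟶ X ⊗ Y := lift (pt inclL ≫ iX) (pt inclR ≫ iY)
  have hj1 : j ≫ fst X Y = pt inclL ≫ iX := lift_fst _ _
  have hj2 : j ≫ snd X Y = pt inclR ≫ iY := lift_snd _ _
  -- `j` is an open immersion
  have hjeq : j = lift (pt inclL) (pt inclR) ≫ (iX ⊗ₘ iY) := by
    ext <;> simp [j]
  haveI hiso : IsIso (lift (pt inclL) (pt inclR)) :=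
    Groth.Agent.Lib.Helper84.Obs.isIso_lift_incl (k := k) A B
  haveI : IsIso (lift (pt inclL) (pt inclR)).left :=
    inferInstanceAs (IsIso ((Over.forget _).map (lift (pt inclL) (pt inclR))))
  haveI : IsOpenImmersion (iX ⊗ₘ iY).left := by
    rw [Over.tensorHom_left]
    infer_instance
  haveI hjo : IsOpenImmersion j.left := by
    rw [hjeq, Over.comp_left]
    infer_instance
  haveI : IsIntegral (X ⊗ Y).left := isIntegral_tensor X Y
  -- the source of `j` is non-empty
  let ab : A ⊗[k] B →ₐ[k] k := Algebra.TensorProduct.lift a b (fun _ _ => Commute.all _ _)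
  haveI : Nontrivial (A ⊗[k] B) := ab.toRingHom.domain_nontrivial
  haveI : Nonempty ↥(sp k (A ⊗[k] B)).left :=
    inferInstanceAs (Nonempty (PrimeSpectrum (A ⊗[k] B)))
  have hinj : Function.Injective (ev j) := by
    intro s t hst
    apply appTop_injective_of_isOpenImmersion j.left
    exact ((ConcreteCategory.isIso_iff_bijective
      (Scheme.ΓSpecIso (CommRingCat.of (A ⊗[k] B))).hom).1 inferInstance).1 hst
  -- key identities of morphisms
  have hK1 : iX ≫ lift (𝟙 X) (toUnit X ≫ ptOf b ≫ iY) = pt (slR A b) ≫ j := by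
    apply CartesianMonoidalCategory.hom_ext
    · have e1 : (iX ≫ lift (𝟙 X) (toUnit X ≫ ptOf b ≫ iY)) ≫ fst X Y = iX := by
        rw [Category.assoc, lift_fst, Category.comp_id]
      have hc : (slR A b).comp inclL = AlgHom.id k A := by
        ext x; simp [slR, inclL]
      have e2 : (pt (slR A b) ≫ j) ≫ fst X Y = iX := by
        rw [Category.assoc, hj1, ← Category.assoc, ← pt_comp, hc, pt_id, Category.id_comp]
      exact e1.trans e2.symm
    · have e1 : (iX ≫ lift (𝟙 X) (toUnit X ≫ ptOf b ≫ iY)) ≫ snd X Y =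
          pt ((Algebra.ofId k A).comp b) ≫ iY := by
        rw [Category.assoc, lift_snd, ← Category.assoc iX,
          toUnit_unique (iX ≫ toUnit X) (toUnit _), ← Category.assoc, toUnit_ptOf]
      have hc : (slR A b).comp inclR = (Algebra.ofId k A).comp b := by
        ext x; simp [slR, inclR]
      have e2 : (pt (slR A b) ≫ j) ≫ snd X Y = pt ((Algebra.ofId k A).comp b) ≫ iY := by
        rw [Category.assoc, hj2, ← Category.assoc, ← pt_comp, hc]
      exact e1.trans e2.symm
  have hK2 : iY ≫ lift (toUnit Y ≫ ptOf a ≫ iX) (𝟙 Y) = pt (slL B a) ≫ j := by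
    apply CartesianMonoidalCategory.hom_ext
    · have e1 : (iY ≫ lift (toUnit Y ≫ ptOf a ≫ iX) (𝟙 Y)) ≫ fst X Y =
          pt ((Algebra.ofId k B).comp a) ≫ iX := by
        rw [Category.assoc, lift_fst, ← Category.assoc iY,
          toUnit_unique (iY ≫ toUnit Y) (toUnit _), ← Category.assoc, toUnit_ptOf]
      have hc : (slL B a).comp inclL = (Algebra.ofId k B).comp a := by
        ext x; simp [slL, inclL]
      have e2 : (pt (slL B a) ≫ j) ≫ fst X Y = pt ((Algebra.ofId k B).comp a) ≫ iX := by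
        rw [Category.assoc, hj1, ← Category.assoc, ← pt_comp, hc]
      exact e1.trans e2.symm
    · have e1 : (iY ≫ lift (toUnit Y ≫ ptOf a ≫ iX) (𝟙 Y)) ≫ snd X Y = iY := by
        rw [Category.assoc, lift_snd, Category.comp_id]
      have hc : (slL B a).comp inclR = AlgHom.id k B := by
        ext x; simp [slL, inclR]
      have e2 : (pt (slL B a) ≫ j) ≫ snd X Y = iY := by
        rw [Category.assoc, hj2, ← Category.assoc, ← pt_comp, hc, pt_id, Category.id_comp]
      exact e1.trans e2.symm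
  have hK3 : lift (ptOf a ≫ iX) (ptOf b ≫ iY) = u₀ k ≫ pt ab ≫ j := by
    apply CartesianMonoidalCategory.hom_ext
    · have hc : ab.comp inclL = a := by
        ext x; simp [ab, inclL]
      have e2 : (u₀ k ≫ pt ab ≫ j) ≫ fst X Y = ptOf a ≫ iX := by
        rw [Category.assoc, Category.assoc, hj1, ← Category.assoc (pt ab), ← pt_comp, hc, ptOf,
          Category.assoc]
      rw [lift_fst, e2]
    · have hc : ab.comp inclR = b := by
        ext x; simp [ab, inclR]
      have e2 : (u₀ k ≫ pt ab ≫ j) ≫ snd X Y = ptOf b ≫ iY := by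
        rw [Category.assoc, Category.assoc, hj2, ← Category.assoc (pt ab), ← pt_comp, hc, ptOf,
          Category.assoc]
      rw [lift_snd, e2]
  -- evaluate both sides on the chart
  apply hinj
  set w := ev j f with hw
  obtain ⟨f', hff'⟩ := hf.exists_right_inv
  have hww : w * ev j f' = 1 := by rw [hw, ← map_mul, hff', map_one]
  have e1 : ev j ((fst X Y).left.appTop ((lift (𝟙 X) (toUnit X ≫ ptOf b ≫ iY)).left.appTop f)) =
      inclL (slR A b w) := by
    rw [← ev_comp, hj1, ev_pt_comp, ← ev_comp, hK1, ev_pt_comp]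
  have e2 : ev j ((snd X Y).left.appTop ((lift (toUnit Y ≫ ptOf a ≫ iX) (𝟙 Y)).left.appTop f)) =
      inclR (slL B a w) := by
    rw [← ev_comp, hj2, ev_pt_comp, ← ev_comp, hK2, ev_pt_comp]
  have e3 : ev j ((toUnit (X ⊗ Y)).left.appTop
      ((lift (ptOf a ≫ iX) (ptOf b ≫ iY)).left.appTop f)) =
      algebraMap k (A ⊗[k] B) (ab w) := by
    rw [← ev_comp, toUnit_unique (j ≫ toUnit (X ⊗ Y)) (toUnit _), hK3]
    have h1 : (u₀ k ≫ pt ab ≫ j).left.appTop f = (pt ab ≫ j).left.appTop f := by
      rw [Over.comp_left, Scheme.Hom.comp_appTop, CommRingCat.comp_apply]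
      rfl
    rw [h1]
    have h2 : ev (toUnit (sp k (A ⊗[k] B))) ((pt ab ≫ j).left.appTop f) =
        ev (toUnit (sp k (A ⊗[k] B)) ≫ u₀ k) ((pt ab ≫ j).left.appTop f) := rfl
    rw [h2, toUnit_comp_u₀, ← ev_comp, ev_pt_comp, ev_pt_comp]
    rfl
  rw [map_mul, map_mul, e1, e2, e3]
  exact unit_formula w (ev j f') hww a b

end Sch

end Groth.Agent.Lib.Helper84.Rosenlicht.Sch
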