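import Mathlib
import Groth.Agent.Lib.Helper84.Rosenlicht.Sch.Core
import Groth.Agent.Lib.Helper64.CurveGeom

/-!
# Units on connected algebraic groups are characters up to scalars (helper84)
-/

set_option autoImplicit false
universe u
open CategoryTheory MonoidalCategory CartesianMonoidalCategory MonObj GrpObj AlgebraicGeometry

namespace Groth.Agent.Lib.Helper84.Rosenlicht.Sch

variable {k : Type u} [Field k] [IsAlgClosed k]
  (G : Over (Spec (CommRingCat.of k))) [GrpObj G] [Smooth G.hom] [QuasiCompact G.hom]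
  [ConnectedSpace ↥G.left]

omit [IsAlgClosed k] [GrpObj G] in
theorem isIntegral_of_smooth_connected : IsIntegral G.left :=
  Groth.Agent.Lib.Helper64.CurveGeom.isIntegral_of_connected_of_smooth k G.hom

/-- pulling back a section along a composite. -/
theorem appTop_comp_apply {T T' T'' : Over (Spec (CommRingCat.of k))} (φ : T ⟶ T') (ψ : T' ⟶ T'')
    (s : Γ(T''.left, ⊤)) :
    (φ ≫ ψ).left.appTop s = φ.left.appTop (ψ.left.appTop s) := by
  rw [Over.comp_left, Scheme.Hom.comp_appTop, CommRingCat.comp_apply]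

/-- **a unit on a connected group taking the value 1 at the origin is a character.** -/
theorem character_of_unit (f : Γ(G.left, ⊤)) (hf : IsUnit f) (he : η[G].left.appTop f = 1) :
    μ[G].left.appTop f = (fst G G).left.appTop f * (snd G G).left.appTop f := by
  haveI : IsIntegral G.left := isIntegral_of_smooth_connected G
  have key := unit_prod_formula (X := G) (Y := G) η[G] η[G] (μ[G].left.appTop f)
    (hf.map μ[G].left.appTop.hom)
  have h1 : lift (𝟙 G) (toUnit G ≫ η[G]) ≫ μ[G] = 𝟙 G := by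
    rw [← Hom.mul_def, ← Hom.one_def, _root_.mul_one]
  have h2 : lift (toUnit G ≫ η[G]) (𝟙 G) ≫ μ[G] = 𝟙 G := by
    rw [← Hom.mul_def, ← Hom.one_def, _root_.one_mul]
  have h3 : lift η[G] η[G] ≫ μ[G] = η[G] := by
    rw [← Hom.mul_def, MonObj.one_eq_one, _root_.mul_one]
  have hid : (𝟙 G : G ⟶ G).left.appTop f = f := by
    rw [Over.id_left, Scheme.Hom.id_appTop]
    rfl
  have A1 : (lift (𝟙 G) (toUnit G ≫ η[G])).left.appTop (μ[G].left.appTop f) = f := by
    rw [← appTop_comp_apply, h1, hid]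
  have A2 : (lift (toUnit G ≫ η[G]) (𝟙 G)).left.appTop (μ[G].left.appTop f) = f := by
    rw [← appTop_comp_apply, h2, hid]
  have A3 : (lift η[G] η[G]).left.appTop (μ[G].left.appTop f) = 1 := by
    rw [← appTop_comp_apply, h3, he]
  rw [A1, A2, A3, map_one, _root_.mul_one] at key
  exact key

section Prod

variable {X : Over (Spec (CommRingCat.of k))} [IsIntegral X.left] [LocallyOfFiniteType X.hom]

omit [IsAlgClosed k] [GrpObj G] [Smooth G.hom] [QuasiCompact G.hom] [ConnectedSpace ↥G.left]
  [IsIntegral X.left] [LocallyOfFiniteType X.hom] in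
theorem appTop_id_apply (s : Γ(X.left, ⊤)) : (𝟙 X : X ⟶ X).left.appTop s = s := by
  rw [Over.id_left, Scheme.Hom.id_appTop]
  rfl

/-- **units on `G × X`**: a unit is a character of `G` times its restriction to `e × X`. -/
theorem exists_character_mul (x₀ : 𝟙_ (Over (Spec (CommRingCat.of k))) ⟶ X)
    (f : Γ((G ⊗ X).left, ⊤)) (hf : IsUnit f) :
    ∃ χ : Γ(G.left, ⊤), IsUnit χ ∧ η[G].left.appTop χ = 1 ∧
      μ[G].left.appTop χ = (fst G G).left.appTop χ * (snd G G).left.appTop χ ∧
      f = (fst G X).left.appTop χ *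
        (snd G X).left.appTop ((lift (toUnit X ≫ η[G]) (𝟙 X)).left.appTop f) := by
  haveI : IsIntegral G.left := isIntegral_of_smooth_connected G
  have key := unit_prod_formula (X := G) (Y := X) η[G] x₀ f hf
  set c := (lift η[G] x₀).left.appTop f with hc
  have hcu : IsUnit c := hf.map (lift η[G] x₀).left.appTop.hom
  obtain ⟨c', hcc'⟩ := hcu.exists_right_inv
  have hc'u : IsUnit c' := IsUnit.of_mul_eq_one c (by rw [mul_comm]; exact hcc')
  set g := (lift (𝟙 G) (toUnit G ≫ x₀)).left.appTop f with hg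
  have hgu : IsUnit g := hf.map (lift (𝟙 G) (toUnit G ≫ x₀)).left.appTop.hom
  set h := (lift (toUnit X ≫ η[G]) (𝟙 X)).left.appTop f with hh
  set χ := g * (toUnit G).left.appTop c' with hχ
  have hχu : IsUnit χ := hgu.mul (hc'u.map (toUnit G).left.appTop.hom)
  have hχe : η[G].left.appTop χ = 1 := by
    rw [hχ, map_mul, hg, ← appTop_comp_apply, ← appTop_comp_apply]
    have h1 : η[G] ≫ lift (𝟙 G) (toUnit G ≫ x₀) = lift η[G] x₀ := by
      rw [comp_lift, Category.comp_id, ← Category.assoc,
        toUnit_unique (η[G] ≫ toUnit G) (𝟙 _), Category.id_comp]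
    have h2 : η[G] ≫ toUnit G = 𝟙 _ := toUnit_unique _ _
    rw [h1, h2, ← hc]
    have h3 : (𝟙 (𝟙_ (Over (Spec (CommRingCat.of k)))) :
        𝟙_ (Over (Spec (CommRingCat.of k))) ⟶ 𝟙_ (Over (Spec (CommRingCat.of k)))).left.appTop c'
          = c' :=
      appTop_id_apply c'
    rw [h3, hcc']
  refine ⟨χ, hχu, hχe, character_of_unit G χ hχu hχe, ?_⟩
  have h1 : (fst G X).left.appTop ((toUnit G).left.appTop c') =
      (toUnit (G ⊗ X)).left.appTop c' := by
    have : (fst G X ≫ toUnit G) = toUnit (G ⊗ X) := toUnit_unique _ _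
    rw [← this, appTop_comp_apply]
  rw [hχ, map_mul, h1, _root_.mul_assoc, mul_comm ((toUnit (G ⊗ X)).left.appTop c'),
    ← _root_.mul_assoc, ← key, _root_.mul_assoc, ← map_mul, hcc', map_one, _root_.mul_one]

end Prod

end Groth.Agent.Lib.Helper84.Rosenlicht.Sch
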